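import Groth.Agent.Stein.K469.Integral

/-!
Composition of a morphism with geometrically connected fibres and a universal homeomorphism.
-/

set_option autoImplicit false
universe u

open AlgebraicGeometry CategoryTheory Limits

namespace K469.Comp

/-- If `p` has geometrically connected fibres and `q` is a universal homeomorphism, then `p ≫ q` has
geometrically connected fibres. -/
theorem geometricallyConnected_comp_of_isUnivHomeo {X Y Z : Scheme.{u}} (p : X ⟶ Y) (q : Y ⟶ Z)
    [GeometricallyConnected p] (hq : FlatMor.IsUnivHomeo q) : GeometricallyConnected (p ≫ q) := by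
  refine ⟨geometrically_iff_of_isClosedUnderIsomorphisms.mpr fun K _ y => ?_⟩
  have h0 : IsPullback (pullback.fst p (pullback.fst q y))
      (pullback.snd p (pullback.fst q y) ≫ pullback.snd q y) (p ≫ q) y :=
    (IsPullback.of_hasPullback p (pullback.fst q y)).paste_vert (IsPullback.of_hasPullback q y)
  have h1 : FlatMor.IsUnivHomeo (pullback.snd q y) :=
    Groth.Agent.FlatA.UnivHomeo.isUnivHomeo_of_isPullback (IsPullback.of_hasPullback q y) hq
  have h2 := Groth.Agent.FlatA.UnivHomeo.isHomeomorph_of_isUnivHomeo h1
  have hsub : Subsingleton ↥(Spec (CommRingCat.of K)) := inferInstanceAs (Subsingleton (PrimeSpectrum K))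
  have h3 : Subsingleton ↥(pullback q y) := h2.injective.subsingleton
  have h4 : Nonempty ↥(pullback q y) := by
    obtain ⟨x, -⟩ := h2.surjective (IsLocalRing.closedPoint K)
    exact ⟨x⟩
  have h5 : ConnectedSpace ↥(pullback p (pullback.fst q y)) :=
    GeometricallyConnected.connectedSpace_of_subsingleton (pullback.snd p (pullback.fst q y))
  exact h0.isoPullback.hom.homeomorph.surjective.connectedSpace h0.isoPullback.hom.continuous

end K469.Comp
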