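import Mathlib.AlgebraicGeometry.Morphisms.UniversallyInjective
import Mathlib.AlgebraicGeometry.Fiber

/-!
Universally injective fibres have purely inseparable residue field extensions.
-/

set_option autoImplicit false
universe u

open AlgebraicGeometry CategoryTheory Limits

namespace K469.FiberPI

theorem isPurelyInseparable_of_fiber {X Y : Scheme.{u}} (p : X ⟶ Y) (x : X)
    (h : UniversallyInjective (p.fiberToSpecResidueField (p x))) :
    (p.residueFieldMap x).hom.IsPurelyInseparable := by
  let _ := (p.residueFieldMap x).hom.toAlgebra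
  rw [RingHom.IsPurelyInseparable, isPurelyInseparable_iff_subsingleton_emb, subsingleton_iff]
  intro σ₁ σ₂
  apply AlgHom.coe_ringHom_injective
  have ht : UniversallyInjective (p.fiberToSpecResidueField (p x)) ↔
      ∀ (K : Type u) [Field K], Function.Injective
        (fun g : Spec (.of K) ⟶ p.fiber (p x) ↦ g ≫ p.fiberToSpecResidueField (p x)) :=
    (tfae_universallyInjective _).out 0 1
  let Ω := AlgebraicClosure (X.residueField x)
  let τ : Y.residueField (p x) ⟶ CommRingCat.of Ω :=
    CommRingCat.ofHom (algebraMap (Y.residueField (p x)) Ω)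
  have hτ : ∀ σ : X.residueField x →ₐ[Y.residueField (p x)] Ω,
      (Spec.map (CommRingCat.ofHom σ.toRingHom) ≫ X.fromSpecResidueField x) ≫ p =
        Spec.map τ ≫ Y.fromSpecResidueField (p x) := by
    intro σ
    rw [Category.assoc, ← p.SpecMap_residueFieldMap_fromSpecResidueField x, ← Spec.map_comp_assoc]
    congr 2
    ext a
    exact AlgHom.commutes σ a
  let g : ∀ σ : X.residueField x →ₐ[Y.residueField (p x)] Ω, Spec (.of Ω) ⟶ p.fiber (p x) := fun σ =>
    pullback.lift _ _ (hτ σ)
  have hg : g σ₁ = g σ₂ := by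
    apply ht.mp h Ω
    exact (pullback.lift_snd _ _ (hτ σ₁)).trans (pullback.lift_snd _ _ (hτ σ₂)).symm
  have h1 : Spec.map (CommRingCat.ofHom σ₁.toRingHom) ≫ X.fromSpecResidueField x =
      Spec.map (CommRingCat.ofHom σ₂.toRingHom) ≫ X.fromSpecResidueField x := by
    have h3 : g σ₁ ≫ p.fiberι (p x) = g σ₂ ≫ p.fiberι (p x) := by rw [hg]
    exact ((pullback.lift_fst _ _ (hτ σ₁)).symm.trans h3).trans (pullback.lift_fst _ _ (hτ σ₂))
  rw [cancel_mono, Spec.map_inj] at h1
  exact congrArg CommRingCat.Hom.hom h1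

end K469.FiberPI
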