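import Mathlib.AlgebraicGeometry.Normalization
import Mathlib.AlgebraicGeometry.Geometrically.Connected
import Mathlib.AlgebraicGeometry.Morphisms.UniversallyInjective
import Mathlib.RingTheory.Spectrum.Prime.Topology
import Groth.Prelude.Def_Flat
import Groth.Agent.FlatA.UnivHomeo

/-!
Integral morphisms with geometrically connected fibres are universally injective, and descent of
geometric connectedness along a surjective morphism.
-/

set_option autoImplicit false
universe u

open AlgebraicGeometry CategoryTheory Limits Polynomial

namespace K469.Integral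

/-- In an integral algebra over a field without non-trivial idempotents every element is a unit or nilpotent. -/
theorem isUnit_or_isNilpotent {K R : Type*} [Field K] [CommRing R] [Algebra K R] [Algebra.IsIntegral K R]
    (hidem : ∀ e : R, IsIdempotentElem e → e = 0 ∨ e = 1) (x : R) : IsUnit x ∨ IsNilpotent x := by
  have hx : IsIntegral K x := Algebra.IsIntegral.isIntegral x
  obtain ⟨q, hq, hq0⟩ := Polynomial.exists_eq_pow_rootMultiplicity_mul_and_not_dvd (minpoly K x)
    (minpoly.ne_zero hx) 0
  rw [map_zero, sub_zero] at hq hq0
  set n := (minpoly K x).rootMultiplicity 0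
  have hc : IsCoprime ((X : K[X]) ^ (n + 1)) q :=
    (((Polynomial.irreducible_X (R := K)).coprime_iff_not_dvd).mpr hq0).pow_left
  obtain ⟨a, b, hab⟩ := hc
  have h0 : x ^ (n + 1) * aeval x q = 0 := by
    have h1 : aeval x (minpoly K x) = 0 := minpoly.aeval K x
    rw [hq, map_mul, map_pow, aeval_X] at h1
    rw [pow_succ, mul_right_comm, h1, zero_mul]
  have h1 : aeval x a * x ^ (n + 1) + aeval x b * aeval x q = 1 := by
    have := congrArg (aeval x) hab
    simpa using this
  have he : IsIdempotentElem (aeval x a * x ^ (n + 1)) := by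
    have : aeval x a * x ^ (n + 1) * (aeval x a * x ^ (n + 1) + aeval x b * aeval x q) =
        aeval x a * x ^ (n + 1) := by rw [h1, mul_one]
    rw [mul_add] at this
    have h2 : aeval x a * x ^ (n + 1) * (aeval x b * aeval x q) = 0 := by
      rw [show aeval x a * x ^ (n + 1) * (aeval x b * aeval x q) =
        aeval x a * aeval x b * (x ^ (n + 1) * aeval x q) by ring, h0, mul_zero]
    rw [h2, add_zero] at this
    exact this
  rcases hidem _ he with h | h
  · right
    rw [h, zero_add] at h1
    refine ⟨n + 1, ?_⟩
    have : x ^ (n + 1) * (aeval x b * aeval x q) = 0 := by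
      rw [show x ^ (n + 1) * (aeval x b * aeval x q) = aeval x b * (x ^ (n + 1) * aeval x q) by ring,
        h0, mul_zero]
    rwa [h1, mul_one] at this
  · left
    rw [pow_succ, ← mul_assoc] at h
    exact IsUnit.of_mul_eq_one (aeval x a * x ^ n) (by rw [mul_comm]; exact h)

theorem idem_trivial {B : Type*} [CommRing B] [PreconnectedSpace (PrimeSpectrum B)] {e : B}
    (he : IsIdempotentElem e) : e = 0 ∨ e = 1 := by
  have h1 := isClopen_iff.mp (PrimeSpectrum.isClopen_iff.mpr ⟨e, he, rfl⟩)
  rcases h1 with h1 | h1
  · left
    apply PrimeSpectrum.basicOpen_injOn_isIdempotentElem he IsIdempotentElem.zero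
    ext1
    rw [h1, PrimeSpectrum.basicOpen_zero]; rfl
  · right
    apply PrimeSpectrum.basicOpen_injOn_isIdempotentElem he IsIdempotentElem.one
    ext1
    rw [h1, PrimeSpectrum.basicOpen_one]; rfl

/-- The spectrum of an integral algebra over a field is a point as soon as it is connected. -/
theorem subsingleton_primeSpectrum {K R : Type*} [Field K] [CommRing R] [Algebra K R]
    [Algebra.IsIntegral K R] [PreconnectedSpace (PrimeSpectrum R)] :
    Subsingleton (PrimeSpectrum R) := by
  have key : ∀ (p q : PrimeSpectrum R), p.asIdeal ≤ q.asIdeal := fun p q x hx => by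
    rcases isUnit_or_isNilpotent (K := K) (fun e he => idem_trivial he) x with h | h
    · exact absurd (Ideal.eq_top_of_isUnit_mem _ hx h) p.2.ne_top
    · exact nilradical_le_prime q.asIdeal h
  exact ⟨fun p q => PrimeSpectrum.ext (le_antisymm (key p q) (key q p))⟩

/-- A connected scheme which is integral over a field is a point. -/
theorem subsingleton_of_isIntegralHom {Z : Scheme.{u}} {K : Type u} [Field K]
    (b : Z ⟶ Spec (CommRingCat.of K)) [IsIntegralHom b] [PreconnectedSpace Z] : Subsingleton Z := by
  have hZ : IsAffine Z := isAffine_of_isAffineHom b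
  let e := Z.isoSpec
  have hint : b.appTop.hom.IsIntegral := IsIntegralHom.isIntegral_app b ⊤ (isAffineOpen_top _)
  let ψ : K →+* Γ(Z, ⊤) := b.appTop.hom.comp (Scheme.ΓSpecIso (CommRingCat.of K)).inv.hom
  have hψ : ψ.IsIntegral := by
    refine RingHom.IsIntegral.trans _ _ ?_ hint
    exact RingHom.isIntegral_of_surjective _
      (Scheme.ΓSpecIso (CommRingCat.of K)).symm.commRingCatIsoToRingEquiv.surjective
  let : Algebra K Γ(Z, ⊤) := ψ.toAlgebra
  have : Algebra.IsIntegral K Γ(Z, ⊤) := ⟨hψ⟩
  have h1 : PreconnectedSpace (PrimeSpectrum Γ(Z, ⊤)) :=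
    (e.hom.homeomorph.surjective.denseRange).preconnectedSpace e.hom.homeomorph.continuous
  have h2 : Subsingleton ↥(Spec Γ(Z, ⊤)) := subsingleton_primeSpectrum (R := Γ(Z, ⊤)) (K := K)
  exact e.hom.homeomorph.injective.subsingleton

/-- An integral morphism with connected fibres is injective. -/
theorem injective_of_geometricallyConnected {X Y : Scheme.{u}} (f : X ⟶ Y) [IsIntegralHom f]
    (h : ∀ y : Y, PreconnectedSpace ↥(f.fiber y)) : Function.Injective f := by
  intro x₁ x₂ hx
  have := h (f x₂)
  have : IsIntegralHom (f.fiberToSpecResidueField (f x₂)) :=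
    inferInstanceAs (IsIntegralHom (pullback.snd _ _))
  have h1 : Subsingleton ↥(f.fiber (f x₂)) :=
    subsingleton_of_isIntegralHom (K := Y.residueField (f x₂)) (f.fiberToSpecResidueField (f x₂))
  obtain ⟨a, ha⟩ : x₁ ∈ Set.range (f.fiberι (f x₂)) := by rw [f.range_fiberι]; exact hx
  obtain ⟨b, hb⟩ : x₂ ∈ Set.range (f.fiberι (f x₂)) := by rw [f.range_fiberι]; rfl
  rw [Subsingleton.elim a b] at ha
  exact ha.symm.trans hb

/-- An integral morphism with geometrically connected fibres is universally injective. -/
theorem universallyInjective_of_geometricallyConnected {X Y : Scheme.{u}} (f : X ⟶ Y)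
    [IsIntegralHom f] [GeometricallyConnected f] : UniversallyInjective f := by
  refine ⟨fun X' Y' i₁ i₂ f' sq => ?_⟩
  have h1 : IsIntegralHom f' := MorphismProperty.of_isPullback (P := @IsIntegralHom) sq.flip inferInstance
  have h2 : GeometricallyConnected f' :=
    MorphismProperty.of_isPullback (P := @GeometricallyConnected) sq.flip inferInstance
  exact injective_of_geometricallyConnected f' fun y => inferInstance

/-- An integral morphism with geometrically connected fibres is a universal homeomorphism. -/
theorem isUnivHomeo_of_geometricallyConnected {X Y : Scheme.{u}} (f : X ⟶ Y)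
    [IsIntegralHom f] [GeometricallyConnected f] : FlatMor.IsUnivHomeo f :=
  Groth.Agent.FlatA.UnivHomeo.isUnivHomeo_of_universallyClosed inferInstance
    (universallyInjective_of_geometricallyConnected f) inferInstance

/-- If `p` is surjective and `p ≫ q` has geometrically connected fibres, so does `q`. -/
theorem geometricallyConnected_of_comp {X Y Z : Scheme.{u}} (p : X ⟶ Y) (q : Y ⟶ Z) [Surjective p]
    [GeometricallyConnected (p ≫ q)] : GeometricallyConnected q := by
  refine ⟨geometrically_iff_of_isClosedUnderIsomorphisms.mpr fun K _ y => ?_⟩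
  have h1 : ConnectedSpace ↥(pullback (p ≫ q) y) :=
    GeometricallyConnected.geometrically_connectedSpace _ _ _ (.of_hasPullback (p ≫ q) y)
  let m : pullback (p ≫ q) y ⟶ pullback q y :=
    pullback.lift (pullback.fst (p ≫ q) y ≫ p) (pullback.snd (p ≫ q) y)
      (by rw [Category.assoc, pullback.condition])
  have hm : IsPullback (pullback.fst (p ≫ q) y) m p (pullback.fst q y) := by
    refine IsPullback.of_bot (v₂₁ := pullback.snd q y) (v₂₂ := q) (h₃₁ := y) ?_ ?_
      (IsPullback.of_hasPullback q y)
    · have : m ≫ pullback.snd q y = pullback.snd (p ≫ q) y := pullback.lift_snd _ _ _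
      rw [this]
      exact IsPullback.of_hasPullback (p ≫ q) y
    · exact (pullback.lift_fst _ _ _).symm
  have hs : Surjective m := MorphismProperty.of_isPullback (P := @Surjective) hm inferInstance
  exact hs.surj.connectedSpace m.continuous

end K469.Integral
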