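import Groth.Agent.Stein.K469.UnibranchRing
import Groth.Agent.Stein.K469.Integral

/-!
Integral morphisms to a geometrically unibranch integral scheme which are purely inseparable at the generic point
are universal homeomorphisms.
-/

set_option autoImplicit false
universe u

open AlgebraicGeometry CategoryTheory Limits

namespace K469.UnibranchSch

/-- The rings of sections over affine opens of a scheme with geometrically unibranch local rings. -/
lemma allGeomUnibranch {Y : Scheme.{u}} (hY : ∀ y : Y, CAlg2.IsGeomUnibranch (Y.presheaf.stalk y))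
    {V : Y.Opens} (hV : IsAffineOpen V) : Groth.Agent.Ega43.Unibranch.AllGeomUnibranch Γ(Y, V) := by
  intro p
  exact ⟨Y.presheaf.stalk (hV.fromSpec p), inferInstance, inferInstance,
    (TopCat.Presheaf.algebra_section_stalk Y.presheaf ⟨hV.fromSpec p, (hV.isoSpec.inv p).2⟩),
    hV.isLocalization_stalk' p (hV.isoSpec.inv p).2, hY _⟩

/-- compatibility of evaluation and residue field maps -/
theorem evaluation_app {N S : Scheme.{u}} (p : N ⟶ S) (U : S.Opens) (x : N) (hx : p x ∈ U) (a : Γ(S, U)) :
    N.evaluation (p ⁻¹ᵁ U) x hx (p.app U a) = (p.residueFieldMap x).hom (S.evaluation U (p x) hx a) := by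
  have h1 := Scheme.residue_residueFieldMap p x
  have h2 := Scheme.Hom.germ_stalkMap p U x hx
  have h1' := fun t => congrArg (fun φ => φ.hom t) h1
  have h2' := fun t => congrArg (fun φ => φ.hom t) h2
  simp only [CommRingCat.hom_comp, RingHom.comp_apply] at h1' h2'
  change (N.residue x).hom ((N.presheaf.germ (p ⁻¹ᵁ U) x hx).hom _) = (p.residueFieldMap x).hom
    ((S.residue (p x)).hom ((S.presheaf.germ U (p x) hx).hom _))
  rw [h1', h2']

theorem evaluation_generic_eq_zero {N : Scheme.{u}} [IsIntegral N] (V : N.Opens) (h : genericPoint N ∈ V)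
    (b : Γ(N, V)) (hb : N.evaluation V (genericPoint N) h b = 0) : b = 0 := by
  rw [Scheme.evaluation_eq_zero_iff_notMem_basicOpen] at hb
  rw [← basicOpen_eq_bot_iff]
  by_contra hne
  apply hb
  have h1 : ((N.basicOpen b : N.Opens) : Set N).Nonempty := by
    rw [Set.nonempty_iff_ne_empty]
    intro h2
    exact hne (TopologicalSpace.Opens.ext h2)
  exact (genericPoint_spec N).mem_open_set_iff (N.basicOpen b).2 |>.mpr (by simpa using h1)

/-- Elements of the residue field at a point are fractions of sections over an affine open. -/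
theorem exists_frac {S : Scheme.{u}} {U : S.Opens} (hU : IsAffineOpen U) (y : S) (hy : y ∈ U)
    (z : S.residueField y) : ∃ s t : Γ(S, U), S.evaluation U y hy s ≠ 0 ∧
      S.evaluation U y hy s * z = S.evaluation U y hy t := by
  obtain ⟨w, rfl⟩ := Scheme.residue_surjective S y z
  let _ : Algebra Γ(S, U) (S.presheaf.stalk y) := TopCat.Presheaf.algebra_section_stalk S.presheaf ⟨y, hy⟩
  have hloc := hU.isLocalization_stalk ⟨y, hy⟩
  obtain ⟨⟨t, s⟩, hst⟩ := IsLocalization.surj (hU.primeIdealOf ⟨y, hy⟩).asIdeal.primeCompl w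
  refine ⟨s, t, ?_, ?_⟩
  · have h1 : IsUnit (S.presheaf.germ U y hy s) :=
      IsLocalization.map_units (S.presheaf.stalk y) s
    have h2 : IsUnit (S.evaluation U y hy s) := h1.map (S.residue y).hom
    exact h2.ne_zero
  · have h1 : w * S.presheaf.germ U y hy s = S.presheaf.germ U y hy t := hst
    have h2 := congrArg (S.residue y).hom h1
    rw [map_mul, mul_comm] at h2
    exact h2

/-- **Key fact.** An integral morphism `p : N ⟶ S` of integral schemes, with `S` having geometrically unibranch
local rings, mapping generic point to generic point with purely inseparable residue field extension there, is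
universally injective. -/
theorem universallyInjective_of_generic {N S : Scheme.{u}} (p : N ⟶ S) [IsIntegral N] [IsIntegral S]
    [IsIntegralHom p] (hS : ∀ s : S, CAlg2.IsGeomUnibranch (S.presheaf.stalk s))
    (hdom : p (genericPoint N) = genericPoint S)
    (hη : (p.residueFieldMap (genericPoint N)).hom.IsPurelyInseparable) : UniversallyInjective p := by
  have ht : UniversallyInjective p ↔
      ∀ (K : Type u) [Field K], Function.Injective (fun g : Spec (.of K) ⟶ N ↦ g ≫ p) :=
    (tfae_universallyInjective p).out 0 1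
  rw [ht]
  intro K _ g₁ g₂ hg
  replace hg : g₁ ≫ p = g₂ ≫ p := hg
  let Ω := AlgebraicClosure K
  let j : Spec (.of Ω) ⟶ Spec (.of K) := Spec.map (CommRingCat.ofHom (algebraMap K Ω))
  have hj : Epi j := by
    have : Surjective j := ⟨fun x => ⟨IsLocalRing.closedPoint Ω, Subsingleton.elim _ _⟩⟩
    exact Flat.epi_of_flat_of_surjective j
  rw [← cancel_epi j]
  let y : S := (j ≫ g₁ ≫ p) (IsLocalRing.closedPoint Ω)
  obtain ⟨_, ⟨U, hU, rfl⟩, hyU, -⟩ := S.isBasis_affineOpens.exists_subset_of_mem_open
    (Set.mem_univ y) isOpen_univ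
  have hV : IsAffineOpen (p ⁻¹ᵁ U) := hU.preimage p
  have hr : ∀ g : Spec (.of Ω) ⟶ N, g ≫ p = j ≫ g₁ ≫ p → Set.range g ⊆ Set.range hV.fromSpec := by
    rintro g hg' _ ⟨x, rfl⟩
    rw [hV.range_fromSpec]
    have hx : x = IsLocalRing.closedPoint Ω := Subsingleton.elim _ _
    subst hx
    change p (g _) ∈ U
    rw [← Scheme.Hom.comp_apply, hg']
    exact hyU
  have e1 := hr (j ≫ g₁) (Category.assoc _ _ _)
  have e2 := hr (j ≫ g₂) (by rw [Category.assoc, ← hg])
  obtain ⟨φ₁, hφ₁⟩ := Spec.map_surjective (IsOpenImmersion.lift hV.fromSpec (j ≫ g₁) e1)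
  obtain ⟨φ₂, hφ₂⟩ := Spec.map_surjective (IsOpenImmersion.lift hV.fromSpec (j ≫ g₂) e2)
  have k1 : Spec.map φ₁ ≫ hV.fromSpec = j ≫ g₁ := by rw [hφ₁, IsOpenImmersion.lift_fac]
  have k2 : Spec.map φ₂ ≫ hV.fromSpec = j ≫ g₂ := by rw [hφ₂, IsOpenImmersion.lift_fac]
  have hfr : Spec.map (p.app U) ≫ hU.fromSpec = hV.fromSpec ≫ p := by
    rw [Scheme.Hom.app_eq_appLE]
    exact IsAffineOpen.SpecMap_appLE_fromSpec p hU hV le_rfl
  have h12 : p.app U ≫ φ₁ = p.app U ≫ φ₂ := by
    apply Spec.map_injective
    rw [Spec.map_comp, Spec.map_comp, ← cancel_mono hU.fromSpec, Category.assoc, Category.assoc, hfr,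
      reassoc_of% k1, reassoc_of% k2, hg]
  have hVne : genericPoint N ∈ p ⁻¹ᵁ U := by
    change p (genericPoint N) ∈ U
    rw [hdom]
    exact (genericPoint_spec S).mem_open_set_iff U.2 |>.mpr ⟨y, trivial, hyU⟩
  have hUne : Nonempty U := ⟨⟨y, hyU⟩⟩
  -- algebra structures
  let A := Γ(S, U)
  let B := Γ(N, p ⁻¹ᵁ U)
  let L := N.residueField (genericPoint N)
  let _ : Algebra A B := (p.app U).hom.toAlgebra
  let _ : Algebra B L := (N.evaluation (p ⁻¹ᵁ U) (genericPoint N) hVne).hom.toAlgebra
  let _ : Algebra A L := ((N.evaluation (p ⁻¹ᵁ U) (genericPoint N) hVne).hom.comp (p.app U).hom).toAlgebra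
  have _ : IsScalarTower A B L := IsScalarTower.of_algebraMap_eq' rfl
  have _ : Algebra.IsIntegral A B := ⟨IsIntegralHom.isIntegral_app p U hU⟩
  have hBL : Function.Injective (algebraMap B L) := by
    rw [injective_iff_map_eq_zero]
    exact fun b hb => evaluation_generic_eq_zero _ hVne b hb
  have hAL' : ∀ a : A, algebraMap A L a =
      (p.residueFieldMap (genericPoint N)).hom (S.evaluation U _ hVne a) := fun a =>
    evaluation_app p U (genericPoint N) hVne a
  have hAL : Function.Injective (algebraMap A L) := by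
    rw [injective_iff_map_eq_zero]
    intro a ha
    rw [hAL', map_eq_zero] at ha
    have key : ∀ (x : S) (hx : x ∈ U), x = genericPoint S → S.evaluation U x hx a = 0 → a = 0 := by
      rintro x hx rfl h
      exact evaluation_generic_eq_zero _ hx a h
    exact key _ hVne hdom ha
  let F := S.residueField (p (genericPoint N))
  let _ : Algebra F L := (p.residueFieldMap (genericPoint N)).hom.toAlgebra
  have _ : IsPurelyInseparable F L := hη
  have _ : ExpChar L (ringExpChar F) := expChar_of_injective_algebraMap (algebraMap F L).injective _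
  have hpi : ∀ b : B, ∃ (n : ℕ) (s t : A), s ≠ 0 ∧
      algebraMap A L s * (algebraMap B L b) ^ (ringExpChar F) ^ n = algebraMap A L t := by
    intro b
    obtain ⟨n, z, hz⟩ := IsPurelyInseparable.pow_mem F (ringExpChar F) (algebraMap B L b)
    obtain ⟨s, t, hs, hst⟩ := exists_frac hU (p (genericPoint N)) hVne z
    refine ⟨n, s, t, ?_, ?_⟩
    · rintro rfl
      exact hs (map_zero _)
    · rw [hAL', hAL', ← hst, map_mul, ← hz]
      rfl
  have := K469.UnibranchRing.ringHom_eq_of_pi hBL hAL (allGeomUnibranch hS hU) (ringExpChar F) hpi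
    (Ω := Ω) φ₁.hom φ₂.hom (fun a => RingHom.congr_fun (congrArg CommRingCat.Hom.hom h12) a)
  rw [← k1, ← k2, CommRingCat.hom_ext this]

end K469.UnibranchSch
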