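import Groth.Prelude.Def_CurvBase
import Groth.Prelude.Def_ResDeg
import Groth.Agent.UnramA.SepDegPoints
import Mathlib.AlgebraicGeometry.ResidueField
import Mathlib.AlgebraicGeometry.Morphisms.UniversallyInjective

/-!
Residue fields of schemes over (the spectrum of) a field: comparison of `Curv2.resMap` with the residue field
map of the structure morphism.
-/

set_option autoImplicit false
universe u

open AlgebraicGeometry CategoryTheory

namespace K469.ResField

/-- The canonical map from a field `k` to the residue field of `Spec k` at a point. -/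
noncomputable def j (k : Type u) [Field k] (y : ↥(Spec (CommRingCat.of k))) :
    k →+* (Spec (CommRingCat.of k)).residueField y :=
  ((Spec (CommRingCat.of k)).residue y).hom.comp
    (((Spec (CommRingCat.of k)).presheaf.germ ⊤ y trivial).hom.comp
      (Scheme.ΓSpecIso (CommRingCat.of k)).inv.hom)

theorem j_bijective (k : Type u) [Field k] (y : ↥(Spec (CommRingCat.of k))) :
    Function.Bijective (j k y) := by
  refine ⟨(j k y).injective, ?_⟩
  have h1 : Function.Surjective ((Spec (CommRingCat.of k)).residue y).hom :=
    Scheme.residue_surjective _ y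
  have h3 : Function.Surjective (Scheme.ΓSpecIso (CommRingCat.of k)).inv.hom :=
    (Scheme.ΓSpecIso (CommRingCat.of k)).symm.commRingCatIsoToRingEquiv.surjective
  have h2 : Function.Surjective ((Spec (CommRingCat.of k)).presheaf.germ ⊤ y trivial).hom := by
    intro t
    obtain ⟨U, hU, s, hs⟩ := TopCat.Presheaf.exists_germ_eq _ t
    have hUt : U = ⊤ := by
      have : Subsingleton ↥(Spec (CommRingCat.of k)) := inferInstanceAs (Subsingleton (PrimeSpectrum k))
      ext z
      simp only [SetLike.mem_coe, TopologicalSpace.Opens.coe_top, Set.mem_univ, iff_true]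
      rwa [Subsingleton.elim z y]
    subst hUt
    exact ⟨s, hs⟩
  exact h1.comp (h2.comp h3)

theorem residueFieldMap_comp_j (k : Type u) [Field k] (X : Scheme.{u})
    [X.Over (Spec (CommRingCat.of k))] (x : X) :
    ((X ↘ Spec (CommRingCat.of k)).residueFieldMap x).hom.comp (j k _) = Curv2.resMap k X x := by
  have h1 := Scheme.residue_residueFieldMap (X ↘ Spec (CommRingCat.of k)) x
  have h2 := Scheme.Hom.germ_stalkMap (X ↘ Spec (CommRingCat.of k)) ⊤ x trivial
  ext a
  have h1' := fun t => congrArg (fun φ => φ.hom t) h1
  have h2' := fun t => congrArg (fun φ => φ.hom t) h2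
  simp only [j, Curv2.resMap, Curv2.stalkMap, Coh.toGlobal]
  simp only [CommRingCat.hom_comp, RingHom.comp_apply] at h1' h2' ⊢
  rw [h1', h2']
  rfl

/-- For a scheme over a field `k`, the separable degree at `x` of the structure morphism is `[κ(x) : k]_s`. -/
theorem residueSepDegree_eq (k : Type u) [Field k] (X : Scheme.{u})
    [X.Over (Spec (CommRingCat.of k))] (x : X)
    (halg : Groth.Agent.UnramA.SepDegPoints.IsAlgAt (X ↘ Spec (CommRingCat.of k)) x) :
    EGA4loc.residueSepDegree (X ↘ Spec (CommRingCat.of k)) x =
      (letI := Curv2.resAlgebra k X x; Field.finSepDegree k (X.residueField x)) := by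
  let y := (X ↘ Spec (CommRingCat.of k)) x
  let _ : Algebra k ((Spec (CommRingCat.of k)).residueField y) := (j k y).toAlgebra
  let _ : Algebra k (X.residueField x) := Curv2.resAlgebra k X x
  let _ : Algebra ((Spec (CommRingCat.of k)).residueField y) (X.residueField x) :=
    ((X ↘ Spec (CommRingCat.of k)).residueFieldMap x).hom.toAlgebra
  have _ : IsScalarTower k ((Spec (CommRingCat.of k)).residueField y) (X.residueField x) :=
    IsScalarTower.of_algebraMap_eq' (residueFieldMap_comp_j k X x).symm
  have _ : Algebra.IsAlgebraic ((Spec (CommRingCat.of k)).residueField y) (X.residueField x) := halg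
  have h1 := Field.finSepDegree_mul_finSepDegree_of_isAlgebraic k
    ((Spec (CommRingCat.of k)).residueField y) (X.residueField x)
  have h2 : Field.finSepDegree k ((Spec (CommRingCat.of k)).residueField y) = 1 := by
    rw [Field.finSepDegree_eq_of_equiv k ((Spec (CommRingCat.of k)).residueField y) k
      (AlgEquiv.ofBijective (Algebra.ofId k _) (j_bijective k y)).symm, Field.finSepDegree_self]
  rw [h2, one_mul] at h1
  exact h1

end K469.ResField
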