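import Groth.Agent.Stein.K469.Integral
import Mathlib.AlgebraicGeometry.Morphisms.QuasiCompact
import Mathlib.RingTheory.KrullDimension.Zero
import Mathlib.FieldTheory.PurelyInseparable.Basic

/-!
Universal homeomorphisms onto the spectrum of a field in terms of global sections.
-/

set_option autoImplicit false
universe u

open AlgebraicGeometry CategoryTheory Limits

namespace K469.PointScheme

theorem evaluation_top_surjective {X : Scheme.{u}} [Subsingleton X] (x : X) :
    Function.Surjective (X.Γevaluation x).hom := by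
  have h1 : Function.Surjective (X.residue x).hom := Scheme.residue_surjective _ x
  have h2 : Function.Surjective (X.presheaf.germ ⊤ x trivial).hom := by
    intro t
    obtain ⟨U, hU, s, hs⟩ := TopCat.Presheaf.exists_germ_eq _ t
    have hUt : U = ⊤ := by
      ext z
      simp only [SetLike.mem_coe, TopologicalSpace.Opens.coe_top, Set.mem_univ, iff_true]
      rwa [Subsingleton.elim z x]
    subst hUt
    exact ⟨s, hs⟩
  exact h1.comp h2

theorem isNilpotent_iff_evaluation {X : Scheme.{u}} [Subsingleton X] (x : X) (a : Γ(X, ⊤)) :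
    IsNilpotent a ↔ X.Γevaluation x a = 0 := by
  have : Finite X := Finite.of_subsingleton
  have h0 : X.Γevaluation x a = 0 ↔ x ∉ X.basicOpen a :=
    Scheme.evaluation_eq_zero_iff_notMem_basicOpen X (U := ⊤) x trivial a
  rw [Scheme.isNilpotent_iff_basicOpen_eq_bot, h0]
  constructor
  · intro h
    rw [h]
    exact id
  · intro h
    ext z
    rw [Subsingleton.elim z x]
    exact ⟨fun h' => (h h').elim, fun h' => h'.elim⟩

/-- An affine scheme has exactly one point iff its ring of global sections is local of dimension zero. -/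
theorem point_iff {N : Scheme.{u}} [IsAffine N] :
    (Nonempty N ∧ Subsingleton N) ↔ (Ring.KrullDimLE 0 Γ(N, ⊤) ∧ IsLocalRing Γ(N, ⊤)) := by
  have ht : (Ring.KrullDimLE 0 Γ(N, ⊤) ∧ IsLocalRing Γ(N, ⊤)) ↔ ∃! I : Ideal Γ(N, ⊤), I.IsPrime :=
    (Ring.krullDimLE_zero_and_isLocalRing_tfae Γ(N, ⊤)).out 0 1
  rw [ht]
  let e : N ≃ PrimeSpectrum Γ(N, ⊤) := N.isoSpec.hom.homeomorph.toEquiv
  constructor
  · rintro ⟨⟨x⟩, h⟩
    refine ⟨(e x).asIdeal, (e x).2, fun I hI => ?_⟩
    have : (⟨I, hI⟩ : PrimeSpectrum Γ(N, ⊤)) = e x := by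
      rw [← e.apply_symm_apply ⟨I, hI⟩, Subsingleton.elim (e.symm ⟨I, hI⟩) x]
    exact congrArg PrimeSpectrum.asIdeal this
  · rintro ⟨I, hI, h⟩
    refine ⟨⟨e.symm ⟨I, hI⟩⟩, ⟨fun x y => e.injective ?_⟩⟩
    ext1
    rw [h (e x).asIdeal (e x).2, h (e y).asIdeal (e y).2]

theorem eval_comp (k : Type u) [Field k] {N : Scheme.{u}} (f : N ⟶ Spec (CommRingCat.of k)) (x : N) (c : k) :
    N.Γevaluation x (f.appTop.hom ((Scheme.ΓSpecIso (CommRingCat.of k)).inv.hom c)) =
      (f.residueFieldMap x).hom ((Spec (CommRingCat.of k)).Γevaluation (f x)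
        ((Scheme.ΓSpecIso (CommRingCat.of k)).inv.hom c)) := by
  have h1 := Scheme.residue_residueFieldMap f x
  have h2 := Scheme.Hom.germ_stalkMap f ⊤ x trivial
  have h1' := fun t => congrArg (fun φ => φ.hom t) h1
  have h2' := fun t => congrArg (fun φ => φ.hom t) h2
  simp only [CommRingCat.hom_comp, RingHom.comp_apply] at h1' h2'
  change (N.residue x).hom ((N.presheaf.germ ⊤ x trivial).hom _) = (f.residueFieldMap x).hom
    (((Spec (CommRingCat.of k)).residue (f x)).hom
      (((Spec (CommRingCat.of k)).presheaf.germ ⊤ (f x) trivial).hom _))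
  rw [h1', h2']
  rfl

/-- An integral scheme over a field is universally homeomorphic to it iff its ring of global sections is
local of dimension zero with purely inseparable residue field. -/
theorem isUnivHomeo_iff (k : Type u) [Field k] {N : Scheme.{u}} (f : N ⟶ Spec (CommRingCat.of k))
    [IsIntegralHom f] :
    FlatMor.IsUnivHomeo f ↔ (IsLocalRing Γ(N, ⊤) ∧ ringKrullDim Γ(N, ⊤) = 0 ∧
        ∀ a : Γ(N, ⊤), ∃ (n : ℕ) (c : k),
          IsNilpotent (a ^ (ringExpChar k ^ n) -
            f.appTop.hom ((Scheme.ΓSpecIso (CommRingCat.of k)).inv.hom c))) := by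
  have hN : IsAffine N := isAffine_of_isAffineHom f
  have hsub : Subsingleton ↥(Spec (CommRingCat.of k)) := inferInstanceAs (Subsingleton (PrimeSpectrum k))
  have hne : Nonempty ↥(Spec (CommRingCat.of k)) := inferInstanceAs (Nonempty (PrimeSpectrum k))
  rw [Groth.Agent.FlatA.UnivHomeo.isUnivHomeo_iff]
  have key : ∀ (x : N), ExpChar ((Spec (CommRingCat.of k)).residueField (f x)) (ringExpChar k) := by
    intro x
    exact expChar_of_injective_ringHom
      (f := ((Spec (CommRingCat.of k)).Γevaluation (f x)).hom.comp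
        (Scheme.ΓSpecIso (CommRingCat.of k)).inv.hom) (RingHom.injective _) (ringExpChar k)
  have ht : UniversallyInjective f ↔
      Function.Injective f ∧ ∀ x, (f.residueFieldMap x).hom.IsPurelyInseparable :=
    (tfae_universallyInjective f).out 0 2
  constructor
  · rintro ⟨-, h2, h3⟩
    obtain ⟨x, -⟩ := f.surjective hne.some
    have hs : Subsingleton N := f.injective.subsingleton
    obtain ⟨h4, h5⟩ := point_iff.mp ⟨⟨x⟩, hs⟩
    have : Nontrivial Γ(N, ⊤) := h5.toNontrivial
    refine ⟨h5, ringKrullDimZero_iff_ringKrullDim_eq_zero.mp h4, fun a => ?_⟩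
    have h6 : (f.residueFieldMap x).hom.IsPurelyInseparable :=
      (ht.mp h2).2 x
    let _ := (f.residueFieldMap x).hom.toAlgebra
    have h7 : IsPurelyInseparable ((Spec (CommRingCat.of k)).residueField (f x)) (N.residueField x) := h6
    have := key x
    obtain ⟨n, z, hz⟩ := IsPurelyInseparable.pow_mem ((Spec (CommRingCat.of k)).residueField (f x))
      (ringExpChar k) (N.Γevaluation x a)
    obtain ⟨b, rfl⟩ := evaluation_top_surjective (f x) z
    obtain ⟨c, rfl⟩ := (Scheme.ΓSpecIso (CommRingCat.of k)).symm.commRingCatIsoToRingEquiv.surjective b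
    refine ⟨n, c, ?_⟩
    rw [isNilpotent_iff_evaluation x, map_sub, sub_eq_zero, map_pow, ← hz, eval_comp]
    rfl
  · rintro ⟨h1, h2, h3⟩
    have h4 : Ring.KrullDimLE 0 Γ(N, ⊤) := ringKrullDimZero_iff_ringKrullDim_eq_zero.mpr h2
    obtain ⟨⟨x⟩, hs⟩ := point_iff.mpr ⟨h4, h1⟩
    refine ⟨inferInstance, ?_, ⟨fun y => ⟨x, Subsingleton.elim _ _⟩⟩⟩
    refine ht.mpr ⟨Function.injective_of_subsingleton _, fun x => ?_⟩
    let _ := (f.residueFieldMap x).hom.toAlgebra
    have := key x
    change IsPurelyInseparable ((Spec (CommRingCat.of k)).residueField (f x)) (N.residueField x)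
    rw [isPurelyInseparable_iff_pow_mem _ (ringExpChar k)]
    intro z
    obtain ⟨a, rfl⟩ := evaluation_top_surjective x z
    obtain ⟨n, c, h⟩ := h3 a
    refine ⟨n, (Spec (CommRingCat.of k)).Γevaluation (f x)
        ((Scheme.ΓSpecIso (CommRingCat.of k)).inv.hom c), ?_⟩
    rw [isNilpotent_iff_evaluation x, map_sub, sub_eq_zero, map_pow, eval_comp] at h
    exact h.symm

end K469.PointScheme
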