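import Groth.Agent.Ega43.Unibranch
import Groth.Agent.Grpsch.QuotPoints

/-!
Integral extensions of a geometrically unibranch domain, purely inseparable at the generic point, are
determined on geometric points by the base.
-/

set_option autoImplicit false
universe u

open CAlg2 Groth.Agent.Ega43.Unibranch

namespace K469.UnibranchRing

/-- power maps by powers of the characteristic exponent of `L` are injective in a field receiving a map from a
ring which embeds in `L`. -/
theorem eq_of_pow_eq {B L Ω : Type*} [CommRing B] [Field L] [Field Ω] [Algebra B L]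
    (hBL : Function.Injective (algebraMap B L)) (φ : B →+* Ω) (q : ℕ) [hq : ExpChar L q] {n : ℕ} {a b : Ω}
    (h : a ^ q ^ n = b ^ q ^ n) : a = b := by
  cases hq with
  | zero => simpa using h
  | prime hp =>
    have h0 : ((q : ℕ) : Ω) = 0 := by
      have h1 : ((q : ℕ) : B) = 0 := by
        apply hBL
        rw [map_natCast, map_zero]
        exact CharP.cast_eq_zero L q
      rw [← map_natCast φ, h1, map_zero]
    have : Fact q.Prime := ⟨hp⟩
    have : CharP Ω q := (CharP.charP_iff_prime_eq_zero hp).mpr h0
    have : ExpChar Ω q := ExpChar.prime hp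
    exact iterateFrobenius_inj Ω q n (by simpa [iterateFrobenius_def] using h)

variable {A B L : Type u} [CommRing A] [IsDomain A] [CommRing B] [Algebra A B] [Algebra.IsIntegral A B]
  [Field L] [Algebra B L] [Algebra A L] [IsScalarTower A B L]

theorem isDomain_red (A : Type u) [CommRing A] [IsDomain A] : IsDomain (red A) := by
  have h : nilradical A = ⊥ := nilradical_eq_zero A
  have : (nilradical A).IsPrime := by rw [h]; exact Ideal.isPrime_bot
  exact Ideal.Quotient.isDomain _

/-- The embedding of the fraction field of `A_red = A` in `L`. -/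
theorem exists_iota (hAL : Function.Injective (algebraMap A L)) :
    Nonempty (FractionRing (red A) →ₐ[A] L) := by
  have := isDomain_red A
  let r : red A →ₐ[A] L := Ideal.Quotient.liftₐ (nilradical A) (Algebra.ofId A L) fun a ha => by
    rw [nilradical_eq_zero A] at ha
    rw [ha, map_zero]
  have hr : Function.Injective r := by
    rw [injective_iff_map_eq_zero]
    intro a ha
    obtain ⟨a, rfl⟩ := Ideal.Quotient.mk_surjective a
    have h1 : algebraMap A L a = 0 := ha
    rw [hAL (h1.trans (map_zero _).symm), map_zero]
  let ι₀ : FractionRing (red A) →+* L := IsFractionRing.lift (g := r.toRingHom) hr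
  refine ⟨{ ι₀ with commutes' := fun a => ?_ }⟩
  change ι₀ (algebraMap A _ a) = _
  rw [IsScalarTower.algebraMap_apply A (red A) (FractionRing (red A)), IsFractionRing.lift_algebraMap]
  exact r.commutes a

/-- **Key lemma.** Let `A` be a domain all of whose local rings are geometrically unibranch, `B` an integral
`A`-algebra contained in a field `L` such that every element of `B` has a power with exponent a power of the
characteristic exponent in the fraction field of `A`. Then points of `B` with values in an algebraically closed
field are determined by their restrictions to `A`. -/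
theorem ringHom_eq_of_pi (hBL : Function.Injective (algebraMap B L))
    (hAL : Function.Injective (algebraMap A L)) (hA : AllGeomUnibranch A) (q : ℕ) [ExpChar L q]
    (hpi : ∀ b : B, ∃ (n : ℕ) (s t : A), s ≠ 0 ∧
      algebraMap A L s * (algebraMap B L b) ^ q ^ n = algebraMap A L t)
    {Ω : Type u} [Field Ω] [IsAlgClosed Ω] (φ₁ φ₂ : B →+* Ω)
    (h12 : ∀ a : A, φ₁ (algebraMap A B a) = φ₂ (algebraMap A B a)) : φ₁ = φ₂ := by
  have := isDomain_red A
  obtain ⟨ι⟩ := exists_iota (L := L) hAL
  let γ : B →+* integralClosure A L :=
    { toFun := fun b => ⟨algebraMap B L b, (Algebra.IsIntegral.isIntegral (R := A) b).map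
        (IsScalarTower.toAlgHom A B L)⟩
      map_one' := Subtype.ext (map_one _)
      map_mul' := fun x y => Subtype.ext (map_mul _ _ _)
      map_zero' := Subtype.ext (map_zero _)
      map_add' := fun x y => Subtype.ext (map_add _ _ _) }
  have hγinj : Function.Injective γ := fun x y h => hBL (congrArg Subtype.val h)
  have hγA : ∀ a : A, γ (algebraMap A B a) = algebraMap A _ a := fun a =>
    Subtype.ext (IsScalarTower.algebraMap_apply A B L a).symm
  have hγint : γ.IsIntegral := by
    have h1 : (algebraMap A (integralClosure A L)).IsIntegral := algebraMap_isIntegral_iff.mpr inferInstance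
    have h2 : algebraMap A (integralClosure A L) = γ.comp (algebraMap A B) := RingHom.ext fun a => (hγA a).symm
    rw [h2] at h1
    exact RingHom.IsIntegral.tower_top _ _ h1
  obtain ⟨ψ₁, hψ₁⟩ := Groth.Agent.Grpsch.AffGrpd.exists_lift_point γ hγint hγinj φ₁
  obtain ⟨ψ₂, hψ₂⟩ := Groth.Agent.Grpsch.AffGrpd.exists_lift_point γ hγint hγinj φ₂
  let m : integralClosure A (FractionRing (red A)) →ₐ[A] integralClosure A L := ι.mapIntegralClosure
  have key : ψ₁.comp m.toRingHom = ψ₂.comp m.toRingHom := by
    refine ringHom_eq hA _ _ fun a => ?_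
    change ψ₁ (m (algebraMap A _ a)) = ψ₂ (m (algebraMap A _ a))
    rw [m.commutes, ← hγA]
    have h1 := RingHom.congr_fun hψ₁ (algebraMap A B a)
    have h2 := RingHom.congr_fun hψ₂ (algebraMap A B a)
    simp only [RingHom.comp_apply] at h1 h2
    rw [h1, h2, h12]
  ext b
  obtain ⟨n, s, t, hs, hst⟩ := hpi b
  refine eq_of_pow_eq hBL φ₁ q (n := n) ?_
  have hs' : algebraMap A L s ≠ 0 := fun h => hs (hAL (h.trans (map_zero _).symm))
  let x : FractionRing (red A) := algebraMap A _ t / algebraMap A _ s
  have hx : ι x = (algebraMap B L b) ^ q ^ n := by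
    rw [map_div₀, ι.commutes, ι.commutes, div_eq_iff hs', mul_comm, hst]
  have hxint : IsIntegral A x := by
    rw [← isIntegral_algHom_iff ι ι.toRingHom.injective, hx]
    exact ((Algebra.IsIntegral.isIntegral (R := A) b).map (IsScalarTower.toAlgHom A B L)).pow _
  have hm : m ⟨x, hxint⟩ = γ (b ^ q ^ n) := Subtype.ext (by rw [map_pow]; exact hx)
  have h3 := RingHom.congr_fun key ⟨x, hxint⟩
  change ψ₁ (m ⟨x, hxint⟩) = ψ₂ (m ⟨x, hxint⟩) at h3
  rw [hm] at h3
  have h1 := RingHom.congr_fun hψ₁ (b ^ q ^ n)
  have h2 := RingHom.congr_fun hψ₂ (b ^ q ^ n)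
  simp only [RingHom.comp_apply] at h1 h2
  rw [h1, h2, map_pow, map_pow] at h3
  exact h3

end K469.UnibranchRing
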